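import Cfsg.Agent.H629.PIndex
import Cfsg.Agent.LieRecognition.ReeSylowThree
import Cfsg.Agent.ChevalleyStructure.Ree.Data
import Cfsg.Prelude.Def_Classification2

/-!
# The centre of a Sylow `3`-subgroup of a Ree group does not have index `9` (helper601)
-/

set_option autoImplicit false

namespace Cfsg.Agent.H601.ReeIdx

open Subgroup Cfsg.Agent.LieRecognition.ReeAbs Cfsg.Agent.LieRecognition.ReeSylowThree
open scoped commutatorElement

theorem comm_U {G K : Type*} [Group G] [Field K] {m : ℕ} {U : K → K → K → G} {h : Kˣ → G} {n : G}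
    (D : Data m U h n) (t : K) : ⁅U t 0 0, U 0 1 0⁆ = U 0 0 t := by
  rw [commutatorElement_def, mul_inv_eq_iff_eq_mul, mul_inv_eq_iff_eq_mul, D.U_mul, D.U_mul, D.U_mul]
  have h2 : (0 : K) ^ 3 ^ (m + 1) = 0 := zero_pow (by positivity)
  simp [h2]

theorem ree_index {G : Type*} [Group G] [Finite G] (h : Cfsg.Lie.IsoRee G) (P : Sylow 3 G) :
    (Subgroup.center (P : Subgroup G)).index ≠ 9 := by
  have : Fact (Nat.Prime 3) := ⟨Nat.prime_three⟩
  intro hP
  obtain ⟨K, _, _, m, hm, hK, ⟨e⟩⟩ := h
  have : Finite ↥(Cfsg.Lie.twistedG2 K (3 ^ m)) := Finite.of_equiv G e.toEquiv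
  obtain ⟨U, h, n, D⟩ := Cfsg.Agent.ChevalleyStructure.Ree.Data.exists_data hK
  have hU : IsPGroup 3 ↥(uSub D) :=
    IsPGroup.of_card (n := 3 * (2 * m + 1)) (by rw [card_uSub, hK, ← pow_mul, mul_comm])
  have hU' : IsPGroup 3 ↥((uSub D).map e.symm.toMonoidHom) := hU.map _
  obtain ⟨Q, hQ⟩ := hU'.exists_le_sylow
  have hQ9 : (center (Q : Subgroup G)).index = 3 ^ 2 := by
    have f := Sylow.equiv P Q
    have h1 : (center (Q : Subgroup G)).comap f.toMonoidHom = center (P : Subgroup G) := by
      ext x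
      simp only [mem_comap, mem_center_iff, MulEquiv.toMonoidHom_eq_coe, MonoidHom.coe_coe]
      constructor
      · intro hx g
        apply f.injective
        rw [map_mul, map_mul]
        exact hx (f g)
      · intro hx g
        obtain ⟨g', rfl⟩ := f.surjective g
        rw [← map_mul, ← map_mul, hx]
    rw [← index_comap_of_surjective (center (Q : Subgroup G)) (f := f.toMonoidHom) f.surjective, h1, hP]
    norm_num
  -- the elements `U 0 0 t`
  have mem : ∀ t u v : K, e.symm (U t u v) ∈ (Q : Subgroup G) := fun t u v =>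
    hQ ⟨U t u v, (mem_uSub D).2 ⟨_, _, _, rfl⟩, rfl⟩
  let x : K → K → K → (Q : Subgroup G) := fun t u v => ⟨e.symm (U t u v), mem t u v⟩
  have hx : ∀ t, ⁅x t 0 0, x 0 1 0⁆ = x 0 0 t := by
    intro t
    apply Subtype.ext
    show ⁅e.symm (U t 0 0), e.symm (U 0 1 0)⁆ = e.symm (U 0 0 t)
    rw [← map_commutatorElement, comm_U D]
  have hxi : ∀ t t', x 0 0 t = x 0 0 t' → t = t' := by
    intro t t' h1
    exact (U_injective D (e.symm.injective (congrArg Subtype.val h1))).2.2
  have hna : ¬ IsMulCommutative (Q : Subgroup G) := by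
    intro hc
    have h1 := hx 1
    rw [commutatorElement_eq_one_iff_mul_comm.2 (hc.is_comm.comm _ _)] at h1
    have h2 := hx 0
    rw [commutatorElement_eq_one_iff_mul_comm.2 (hc.is_comm.comm _ _), h1] at h2
    have h3 := h2.symm
    exact zero_ne_one (hxi _ _ h3)
  have hcard := H629.PIndex.card_commutator (P := (Q : Subgroup G)) (p := 3) hna hQ9
  have hmem : ∀ t, x 0 0 t ∈ commutator (Q : Subgroup G) := by
    intro t
    rw [← hx t]
    exact commutator_mem_commutator (mem_top _) (mem_top _)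
  have hle : Nat.card K ≤ Nat.card (commutator (Q : Subgroup G)) :=
    Nat.card_le_card_of_injective (fun t => (⟨x 0 0 t, hmem t⟩ : commutator (Q : Subgroup G)))
      fun t t' h1 => hxi _ _ (congrArg Subtype.val h1)
  rw [hcard, Nat.card_eq_fintype_card, hK] at hle
  have : 3 ^ 1 < 3 ^ (2 * m + 1) := Nat.pow_lt_pow_right (by norm_num) (by omega)
  omega

end Cfsg.Agent.H601.ReeIdx
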